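import Cfsg.Agent.H54.PQ.Frame
import Cfsg.Agent.H967.CopMat
import Cfsg.Agent.Lib.FieldAutCard

/-!
# S4981: an element of the field fixed by the automorphisms of `p`-power order and moved by `φ` (helper54)
-/

set_option autoImplicit false

namespace Cfsg.Agent.H54.PQ

open Subgroup Cfsg Cfsg.Agent.H967.CopMat

universe v

theorem fixed_zpow {F : Type v} [Field F] {σ : F ≃+* F} {x : F} (h : σ x = x) (k : ℤ) : (σ ^ k) x = x := by
  have h1 : σ ∈ MulAction.stabilizer (F ≃+* F) x := h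
  exact zpow_mem h1 k

/-- an element of `F` fixed by the automorphisms of `p`-power order whose `m`-th power is moved by `φ ≠ 1` of `q`-power
order, `m ≤ 3`, `q` odd -/
theorem exists_moved_elt {p q : ℕ} (hp : p.Prime) (hq : q.Prime) (hpq : p ≠ q) (hq2 : q ≠ 2) {F : Type v} [Field F]
    [Finite F] {φ : F ≃+* F} (h1 : φ ≠ 1) (hφ : ∃ k : ℕ, orderOf φ = q ^ k) {m : ℕ} (hm0 : m ≠ 0) (hm : m ≤ 3) :
    ∃ u : F, u ≠ 0 ∧ (∀ σ : F ≃+* F, (∃ k : ℕ, orderOf σ = p ^ k) → σ u = u) ∧ φ (u ^ m) ≠ u ^ m := by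
  classical
  have hft : Fintype F := Fintype.ofFinite F
  have hfin : Finite (F ≃+* F) := Finite.of_injective (fun f : F ≃+* F => (f : F → F)) DFunLike.coe_injective
  have hft2 : Fintype (F ≃+* F) := Fintype.ofFinite _
  obtain ⟨r, hr⟩ := CharP.exists F
  obtain ⟨f, hrp, hf⟩ := FiniteField.card F r
  have : Fact r.Prime := ⟨hrp⟩
  obtain ⟨τ, hτ⟩ := exists_ringAut r f hf
  have hcard : Nat.card (F ≃+* F) = f := Cfsg.Agent.Lib.FieldAutCard.card_ringAut f.pos hf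
  have hcyc : IsCyclic (F ≃+* F) := isCyclic_of_orderOf_eq_card τ (by rw [hτ, hcard])
  -- the generator of the `p`-part
  obtain ⟨a, m', hm', ham⟩ := Nat.exists_eq_pow_mul_and_not_dvd (n := (f : ℕ)) f.ne_zero p hp.one_lt.ne'
  have hm'0 : m' ≠ 0 := by rintro rfl; exact hm' (dvd_zero p)
  set σ₀ : F ≃+* F := τ ^ m' with hσ₀
  have hσo : orderOf σ₀ = p ^ a := by
    rw [hσ₀, orderOf_pow_of_dvd hm'0 (by rw [hτ, ham]; exact Dvd.intro_left _ rfl), hτ, ham,
      Nat.mul_div_cancel _ (Nat.pos_of_ne_zero hm'0)]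
  have hall : ∀ σ : F ≃+* F, (∃ k : ℕ, orderOf σ = p ^ k) → σ ∈ zpowers σ₀ := by
    rintro σ ⟨k, hk⟩
    have h2 : p ^ k ∣ p ^ a := by
      have h3 : orderOf σ ∣ f := by rw [← hcard]; exact orderOf_dvd_natCard σ
      rw [hk, ham] at h3
      exact (((hp.coprime_iff_not_dvd).2 hm').pow_left k).dvd_of_dvd_mul_right h3
    have h4 : σ ^ p ^ a = 1 := by
      rw [← orderOf_dvd_iff_pow_eq_one, hk]; exact h2
    have h5 : zpowers σ₀ = zpowers σ₀ := rfl
    -- count the solutions of `x ^ (p ^ a) = 1`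
    have h6 : ∀ x ∈ zpowers σ₀, x ^ p ^ a = 1 := by
      rintro _ ⟨j, rfl⟩
      show (σ₀ ^ j) ^ p ^ a = 1
      rw [← zpow_natCast, ← zpow_mul, mul_comm, zpow_mul, zpow_natCast, ← hσo, pow_orderOf_eq_one, one_zpow]
    have h7 := IsCyclic.card_pow_eq_one_le (α := F ≃+* F) (n := p ^ a) (pow_pos hp.pos a)
    by_contra hcon
    have h8 : (insert σ ((zpowers σ₀ : Set (F ≃+* F)).toFinset)) ⊆
        Finset.univ.filter (fun x : F ≃+* F => x ^ p ^ a = 1) := by
      intro x hx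
      rw [Finset.mem_insert, Set.mem_toFinset] at hx
      rw [Finset.mem_filter]
      refine ⟨Finset.mem_univ _, ?_⟩
      rcases hx with rfl | hx
      · exact h4
      · exact h6 x hx
    have h9 := Finset.card_le_card h8
    rw [Finset.card_insert_of_notMem (by rw [Set.mem_toFinset]; exact hcon), Set.toFinset_card] at h9
    have h10 : Fintype.card ↥(zpowers σ₀ : Set (F ≃+* F)) = p ^ a := by
      rw [← hσo, ← Nat.card_zpowers, Nat.card_eq_fintype_card]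
      rfl
    rw [h10] at h9
    omega
  obtain ⟨k, hk⟩ := hφ
  have hk0 : k ≠ 0 := by
    rintro rfl
    rw [pow_zero, orderOf_eq_one_iff] at hk
    exact h1 hk
  -- `ρ = σ₀ φ`
  have hcomm : Commute σ₀ φ := by
    obtain ⟨g, hg⟩ := hcyc.exists_generator
    obtain ⟨i, hi⟩ := hg σ₀
    obtain ⟨j, hj⟩ := hg φ
    rw [← hi, ← hj]
    exact (Commute.refl g).zpow_zpow i j
  have hcop : (orderOf σ₀).Coprime (orderOf φ) := by
    rw [hσo, hk]
    exact ((Nat.coprime_primes hp hq).2 hpq).pow a k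
  set ρ : F ≃+* F := σ₀ * φ with hρ
  have hρo : orderOf ρ = p ^ a * q ^ k := by rw [hρ, hcomm.orderOf_mul_eq_mul_orderOf_of_coprime hcop, hσo, hk]
  have hF1 : Nat.card F = Nat.card ↥(Fx σ₀) ^ p ^ a := by rw [card_Fx σ₀, hσo]
  have hF2 : Nat.card F = Nat.card ↥(Fx ρ) ^ (p ^ a * q ^ k) := by rw [card_Fx ρ, hρo]
  set c := Nat.card ↥(Fx ρ) with hc
  set d := Nat.card ↥(Fx σ₀) with hd
  have hc2 : 2 ≤ c := Finite.one_lt_card
  have hdc : d = c ^ q ^ k := by
    have h2 : d ^ p ^ a = (c ^ q ^ k) ^ p ^ a := by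
      rw [← hF1, hF2, ← pow_mul, mul_comm]
    exact Nat.pow_left_injective (pow_pos hp.pos a).ne' h2
  -- a generator of the multiplicative group of `Fx σ₀`
  obtain ⟨u, hu⟩ := IsCyclic.exists_ofOrder_eq_natCard (α := (↥(Fx σ₀))ˣ)
  have hFx : Fintype ↥(Fx σ₀) := Fintype.ofFinite _
  rw [Nat.card_units] at hu
  have hu1 : σ₀ ((u : ↥(Fx σ₀)) : F) = ((u : ↥(Fx σ₀)) : F) := (u : ↥(Fx σ₀)).2
  set w : F := ((u : ↥(Fx σ₀)) : F) with hw
  have hw0 : w ≠ 0 := by
    intro h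
    exact u.ne_zero (Subtype.ext h)
  have how : orderOf w = d - 1 := by
    rw [hd, ← hu, ← orderOf_units]
    exact orderOf_injective ((Fx σ₀).subtype : ↥(Fx σ₀) →* F) (Fx σ₀).subtype.injective (u : ↥(Fx σ₀))
  refine ⟨w, hw0, fun σ hσ => ?_, fun hcon => ?_⟩
  · obtain ⟨i, hi⟩ := hall σ hσ
    have h2 : σ₀ ^ i = σ := hi
    rw [← h2]
    exact fixed_zpow hu1 i
  · have h2 : w ^ m ∈ Fx ρ := by
      rw [mem_Fx, hρ, RingAut.mul_apply, hcon, map_pow, hu1]
    have h3 : (w ^ m) ^ (c - 1) = 1 := by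
      have hFr : Fintype ↥(Fx ρ) := Fintype.ofFinite _
      have h4 := FiniteField.pow_card_sub_one_eq_one (⟨w ^ m, h2⟩ : ↥(Fx ρ)) (by
        intro h
        exact pow_ne_zero m hw0 (congrArg Subtype.val h))
      rw [← Nat.card_eq_fintype_card] at h4
      exact congrArg Subtype.val h4
    rw [← pow_mul] at h3
    have h5 := orderOf_dvd_of_pow_eq_one h3
    rw [how, hdc] at h5
    have h6 : c ^ q ^ k - 1 ≤ m * (c - 1) := Nat.le_of_dvd (Nat.mul_pos (Nat.pos_of_ne_zero hm0) (by omega)) h5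
    have h7 : 3 ≤ q ^ k := by
      have h8 : 3 ≤ q := by have := hq.two_le; omega
      calc 3 ≤ q := h8
        _ = q ^ 1 := (pow_one q).symm
        _ ≤ q ^ k := Nat.pow_le_pow_right hq.pos (Nat.one_le_iff_ne_zero.2 hk0)
    have h8 : c ^ 3 ≤ c ^ q ^ k := Nat.pow_le_pow_right (by omega) h7
    obtain ⟨e, he⟩ : ∃ e, c = e + 2 := ⟨c - 2, by omega⟩
    have h9 : m * (c - 1) ≤ 3 * (c - 1) := Nat.mul_le_mul_right _ hm
    have h10 : 3 * (c - 1) + 1 < c ^ 3 := by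
      rw [he]
      have : (e + 2) ^ 3 = e ^ 3 + 6 * e ^ 2 + 12 * e + 8 := by ring
      rw [this, show e + 2 - 1 = e + 1 by omega]
      nlinarith [Nat.zero_le (e ^ 3), Nat.zero_le (e ^ 2)]
    omega

end Cfsg.Agent.H54.PQ
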