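import Cfsg.Agent.H54.PQ.Defs
import Cfsg.Agent.H353.PQ.Small
import Cfsg.Agent.OddHalf.Known
import Cfsg.Prelude.Def_LieTypeChar

/-!
# S4981: assembly (helper54)

* `CrossRow`, `DefRow` : the fact for the groups of Lie type, in cross and in defining characteristic;
* `sfact_all` : the fact for all known simple groups.
-/

set_option autoImplicit false

namespace Cfsg.Agent.H54.PQ

open Subgroup Cfsg

universe u

/-- the fact for a family of groups of Lie type in cross characteristic -/
def CrossRow (Fam : ℕ → (G : Type u) → [Group G] → Prop) : Prop :=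
  ∀ (p q r : ℕ), p ≠ r → ∀ (G : Type u) [Group G] [Finite G] [IsSimpleGroup G], (∃ a b : G, a * b ≠ b * a) →
    Fam r G → SFact p q G

/-- the fact for a family of groups of Lie type in defining characteristic -/
def DefRow (Fam : ℕ → (G : Type u) → [Group G] → Prop) : Prop :=
  ∀ (p q : ℕ) (G : Type u) [Group G] [Finite G] [IsSimpleGroup G], (∃ a b : G, a * b ≠ b * a) → Fam p G → SFact p q G

theorem sfact_all (hX : CrossRow.{u} (fun r G _ => IsLieTypeChar r G)) (hD : DefRow.{u} (fun r G _ => IsLieTypeChar r G))
    {S : Type u} [Group S] [Finite S] [IsSimpleGroup S] (hna : ¬ IsMulCommutative S) (hK : IsKnownSimple' S)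
    (p q : ℕ) : SFact p q S := by
  have hc : ∃ a b : S, a * b ≠ b * a := by
    by_contra hcon
    push Not at hcon
    exact hna ⟨⟨hcon⟩⟩
  have key : ∀ r : ℕ, IsLieTypeChar r S → SFact p q S := by
    intro r h
    by_cases hr : p = r
    · subst hr
      exact hD p q S hc h
    · exact hX p q r hr S hc h
  rcases OddHalf.Known.classify hna hK with h | ⟨r, -, -, h⟩ | (h | h) | h
  · exact H353.PQ.sfact_small hna (Or.inl h) p q
  · exact key r h
  · exact key 2 h
  · exact H353.PQ.sfact_small hna (Or.inr (Or.inr h)) p q
  · exact H353.PQ.sfact_small hna (Or.inr (Or.inl h)) p q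

end Cfsg.Agent.H54.PQ
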