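import Cfsg.Agent.H660.PQ.RowTw
import Cfsg.Agent.H754.PQ.TwoRows

/-!
# S4981: the case `u² = 1` modulo `p` of the exceptional groups, in the form of `H660/PQ` (helper54)
-/

set_option autoImplicit false

open Cfsg Subgroup

namespace Cfsg.Agent.H54.PQ.TwoGlue

open Cfsg.Lie Cfsg.Agent.ChevalleyStructure Cfsg.Agent.ChevalleyStructure.Elts
  Cfsg.Agent.ChevalleyStructure.CoxeterGeomTypes Cfsg.Agent.Nodes.RGDChev Cfsg.Agent.H54.PQ Cfsg.Agent.H754.PQ
  Cfsg.Agent.H967.CopMat Cfsg.Agent.H967.CopChev Cfsg.Agent.H967.FaBase Cfsg.Agent.H55.PQ.Red Cfsg.Agent.H660.PQ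
  Cfsg.Agent.H967.CopTw Cfsg.Agent.H967.CopSz Cfsg.Agent.H967.FaTw

open scoped MatrixGroups

theorem dvd_of_sq {p n : ℕ} (hn : 0 < n) (h : ((n : ℕ) : ZMod p) ^ 2 = 1) : p ∣ n ^ 2 - 1 := by
  have h1 : 1 ≤ n ^ 2 := Nat.one_le_pow _ _ hn
  rw [← ZMod.natCast_eq_zero_iff, Nat.cast_sub h1]
  push_cast
  rw [h, sub_self]

theorem twoChev {D : ChevalleyDatum} (hD : InList D) (hL : ∃ r, LongOK D r) : TwoChev D := by
  intro p q _ _ F _ _ h7 h3 hpF hqG hpG A Φ φ hφ hFS hinv hord h2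
  have h5 : 5 ≤ q := by
    have hq : q.Prime := Fact.out
    have h4 : q ≠ 4 := by rintro rfl; exact absurd hq (by decide)
    omega
  refine two_chev (Ψ := fieldAut (stab_group D F)) hD hL hpF hFS hinv (stab_group D F) (MonoidHom.id _)
    Function.surjective_id ?_ ?_ ?_ h7 h5 hord (dvd_of_sq Nat.card_pos h2)
  · intro z hz
    have : z = 1 := hz
    rw [this]; exact one_mem _
  · rw [MonoidHom.ker_id, Subgroup.card_bot]
    exact fun h => by have := Nat.le_of_dvd one_pos h; omega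
  · intro σ g
    rfl

theorem twoTwE6 : TwoTwE6 := by
  intro p q _ _ F _ _ q₁ hq₁ hF hpF h7 h3 hqG hpG A Φ φ hφ hFS hinv hord h2
  have h5 : 5 ≤ q := by
    have hq : q.Prime := Fact.out
    have h4 : q ≠ 4 := by rintro rfl; exact absurd hq (by decide)
    omega
  refine two_twE6 (Ψ := fieldAut (stab_e6 (K := F) q₁)) hq₁ (by rw [Nat.card_eq_fintype_card, hF]) hpF hFS hinv
    (stab_e6 (K := F) q₁) (MonoidHom.id _)
    Function.surjective_id ?_ ?_ ?_ h7 h5 hord (dvd_of_sq hq₁.pos h2)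
  · intro z hz
    have : z = 1 := hz
    rw [this]; exact one_mem _
  · rw [MonoidHom.ker_id, Subgroup.card_bot]
    exact fun h => by have := Nat.le_of_dvd one_pos h; omega
  · intro σ g
    rfl

theorem twoTwD4 : TwoTwD4 := by
  intro p q _ _ F _ _ q₁ hq₁ hF hpF h7 h3 hqG hpG A Φ φ hφ hFS hinv hord h2
  have h5 : 5 ≤ q := by
    have hq : q.Prime := Fact.out
    have h4 : q ≠ 4 := by rintro rfl; exact absurd hq (by decide)
    omega
  refine two_twD4 (Ψ := fieldAut (stab_d4 (K := F) q₁)) hq₁ (by rw [Nat.card_eq_fintype_card, hF]) hpF hFS hinv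
    (stab_d4 (K := F) q₁) (MonoidHom.id _)
    Function.surjective_id ?_ ?_ ?_ h7 h5 hord (dvd_of_sq hq₁.pos h2)
  · intro z hz
    have : z = 1 := hz
    rw [this]; exact one_mem _
  · rw [MonoidHom.ker_id, Subgroup.card_bot]
    exact fun h => by have := Nat.le_of_dvd one_pos h; omega
  · intro σ g
    rfl

theorem twoTwF4 : TwoTwF4 := by
  intro p q _ _ F _ _ m hm hF hpF h7 h3 hqG hpG A Φ φ hφ hFS hinv hord h2
  have hcard := S1068.result (K := F) hF
  have h5 : 5 ∣ Nat.card ↥(twistedF4 F (2 ^ m)) := by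
    rw [hcard]
    have h5 : 5 ∣ (2 ^ (2 * m + 1)) ^ 4 - 1 := by
      rcases Cfsg.Agent.H967.FaChev.pow_dvd_of Nat.prime_five (q := 2 ^ (2 * m + 1)) (k := 4) (by positivity)
        (by norm_num) with h | h
      · exact absurd ((Nat.prime_dvd_prime_iff_eq Nat.prime_five Nat.prime_two).1
          (Nat.prime_five.dvd_of_dvd_pow h)) (by norm_num)
      · exact h
    exact (h5.mul_left _).mul_right _
  have h7q : 7 ≤ q := by
    have hq : q.Prime := Fact.out
    have h4 : q ≠ 4 := by rintro rfl; exact absurd hq (by decide)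
    have h6 : q ≠ 6 := by rintro rfl; exact absurd hq (by decide)
    have h55 : q ≠ 5 := by rintro rfl; exact hqG h5
    omega
  refine two_twF4 (Ψ := fieldAut (stab_f4 (K := F) (2 ^ m))) (by rw [Nat.card_eq_fintype_card, hF]) hpF hFS hinv
    (stab_f4 (K := F) (2 ^ m)) (MonoidHom.id _)
    Function.surjective_id ?_ ?_ ?_ h7 h7q hord (dvd_of_sq Nat.card_pos h2)
  · intro z hz
    have : z = 1 := hz
    rw [this]; exact one_mem _
  · rw [MonoidHom.ker_id, Subgroup.card_bot]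
    exact fun h => by have := Nat.le_of_dvd one_pos h; omega
  · intro σ g
    rfl

universe u

/-- **the exceptional Chevalley groups in cross characteristic** -/
theorem row_chev_cross {p q r : ℕ} (hpr : p ≠ r) {G : Type u} [Group G] [Finite G]
    (hG : IsExceptionalChevChar r G) : SFact p q G :=
  row_chev_cross_of (twoChev (by simp [InList]) ⟨_, longOK_G2⟩) (twoChev (by simp [InList]) ⟨_, longOK_F4⟩)
    (twoChev (by simp [InList]) ⟨_, longOK_E6⟩) (twoChev (by simp [InList]) ⟨_, longOK_E7⟩)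
    (twoChev (by simp [InList]) ⟨_, longOK_E8⟩) hpr hG

/-- **`²E₆(q)` and `³D₄(q)` in cross characteristic** -/
theorem row_tw_cross {p q r : ℕ} (hpr : p ≠ r) {G : Type u} [Group G] [Finite G]
    (hG : IsTwistedE6D4Char r G) : SFact p q G :=
  row_tw_cross_of twoTwE6 twoTwD4 hpr hG

/-- **`²F₄(q)` in cross characteristic** -/
theorem row_tf4_cross {p q : ℕ} (hcent : CentTwF4) (hp2 : p ≠ 2) {G : Type u} [Group G] [Finite G]
    (hG : Lie.Iso2F4 G) : SFact p q G :=
  row_tf4_cross_of twoTwF4 hcent hp2 hG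

end Cfsg.Agent.H54.PQ.TwoGlue
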